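import Groth.Agent.H25Quad.Smooth
import Mathlib.FieldTheory.IsAlgClosed.AlgebraicClosure

/-!
# Smoothness of projective hypersurfaces over any field
-/

set_option autoImplicit false
set_option linter.style.haveILetI false
set_option backward.isDefEq.respectTransparency false
universe u

open CategoryTheory CategoryTheory.Limits AlgebraicGeometry LefPen MvPolynomial

namespace Groth.Agent.H23Weier

variable {k : Type u} [Field k] {m : ℕ}

theorem exists_point {A : Type u} [CommRing A] [Algebra k A] [Algebra.FiniteType k A] {I : Ideal A} (hI : I ≠ ⊤) :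
    ∃ p : A →ₐ[k] AlgebraicClosure k, ∀ x ∈ I, p x = 0 := by
  obtain ⟨M, hM, hle⟩ := Ideal.exists_le_maximal I hI
  letI := Ideal.Quotient.field M
  haveI : Algebra.FiniteType k (A ⧸ M) :=
    Algebra.FiniteType.of_surjective (Ideal.Quotient.mkₐ k M) Ideal.Quotient.mk_surjective
  haveI : Module.Finite k (A ⧸ M) := finite_of_finite_type_of_isJacobsonRing k (A ⧸ M)
  haveI : Algebra.IsAlgebraic k (A ⧸ M) := Algebra.IsAlgebraic.of_finite k _
  refine ⟨(IsAlgClosed.lift (R := k) (S := A ⧸ M) (M := AlgebraicClosure k)).comp (Ideal.Quotient.mkₐ k M),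
    fun x hx => ?_⟩
  simp [Ideal.Quotient.eq_zero_iff_mem.mpr (hle hx)]

variable (k m) in
/-- The coordinates of a chart. -/
noncomputable def chartEquiv (j : Fin (m + 1)) : MvPolynomial {l : Fin (m + 1) // l ≠ j} k ≃+*
    Γ(CohB1.ProjSpace m k, (H25Transversal.chartU m k j).1) :=
  haveI : IsIso (Proj.awayToSection (CohB1.polyGrading m k) (MvPolynomial.X j)) :=
    inferInstanceAs (IsIso (Proj.basicOpenIsoAway _ _ (X_mem m k j) one_pos).hom)
  (RingEquiv.ofBijective _ (H11Proj.ProjSpace.chartMap_bijective m k j)).trans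
    (asIso (Proj.awayToSection (CohB1.polyGrading m k) (MvPolynomial.X j))).commRingCatIsoToRingEquiv

theorem chartEquiv_dehom (j : Fin (m + 1)) (F : MvPolynomial (Fin (m + 1)) k) :
    H25Transversal.polyToSection m k j F = chartEquiv k m j (H11Proj.ProjSpace.dehom m k j F) :=
  congrArg (Proj.awayToSection (CohB1.polyGrading m k) (MvPolynomial.X j)).hom
    (RingHom.congr_fun (H11Proj.ProjSpace.chartMap_comp_dehom m k j) F).symm

theorem chartEquiv_C (j : Fin (m + 1)) (c : k) :
    ((Scheme.ΓSpecIso (CommRingCat.of k)).inv ≫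
      (CohB1.ProjSpace.toSpec m k).appLE ⊤ (chart m k j) (fun _ _ => trivial)).hom c = chartEquiv k m j (C c) := by
  have h1 : Spec.map ((Scheme.ΓSpecIso (CommRingCat.of k)).inv ≫
      (CohB1.ProjSpace.toSpec m k).appLE ⊤ (chart m k j) (fun _ _ => trivial)) =
      Spec.map (CommRingCat.ofHom ((H25Transversal.polyToSection m k j).comp MvPolynomial.C)) := by
    rw [← H25Transversal.fromSpec_toSpec]
    have e2 := IsAffineOpen.SpecMap_appLE_fromSpec (CohB1.ProjSpace.toSpec m k)
      (isAffineOpen_top (Spec (CommRingCat.of k))) (H25Transversal.chartU m k j).2 (fun _ _ => trivial)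
    rw [IsAffineOpen.fromSpec_top, Scheme.isoSpec_Spec_inv, ← Spec.map_comp] at e2
    exact e2
  refine (RingHom.congr_fun (congrArg CommRingCat.Hom.hom (Spec.map_injective h1)) c).trans ?_
  refine (chartEquiv_dehom j (C c)).trans ?_
  simp [H11Proj.ProjSpace.dehom]
  try rfl

/-- A form without singular zeros other than the origin defines a smooth hypersurface. -/
theorem smooth_hyp {d : ℕ} (G : Form m k d)
    (h : ∀ v : Fin (m + 1) → AlgebraicClosure k, aeval v G.1 = 0 → (∀ i, aeval v (pderiv i G.1) = 0) → v = 0) :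
    Smooth ((hypIdeal G).subschemeι ≫ CohB1.ProjSpace.toSpec m k) := by
  classical
  have hcomap : secIdeal (𝟙 (CohB1.ProjSpace m k)) {G} = hypIdeal G := by
    rw [secIdeal, iSup_singleton, Scheme.IdealSheafData.comap_id]
  have hkey : SmoothOfRelativeDimension (m - 1)
      (secToSpec (𝟙 (CohB1.ProjSpace m k)) ({G} : Set (Form m k d))) := by
    refine H25Transversal.smoothOfRelativeDimension_sec _ _ fun x => ?_
    obtain ⟨j, hj⟩ : ∃ j, x ∈ chart m k j := by
      have : x ∈ (⨆ j, chart m k j) := by
        rw [show (⨆ j, chart m k j) = ⊤ from H11Proj.ProjSpace.iSup_basicOpen m k]; trivial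
      exact TopologicalSpace.Opens.mem_iSup.mp this
    refine ⟨H25Transversal.chartU m k j, hj, ?_⟩
    let σ := {l : Fin (m + 1) // l ≠ j}
    haveI : IsIso (Proj.awayToSection (CohB1.polyGrading m k) (MvPolynomial.X j)) :=
      inferInstanceAs (IsIso (Proj.basicOpenIsoAway _ _ (X_mem m k j) one_pos).hom)
    let e := chartEquiv k m j
    have he := chartEquiv_dehom (k := k) (m := m) j
    have hC : ∀ c, ((Scheme.ΓSpecIso (CommRingCat.of k)).inv ≫
        (𝟙 _ ≫ CohB1.ProjSpace.toSpec m k).appLE ⊤ (chart m k j) (fun _ _ => trivial)).hom c =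
          e (C c) := by
      intro c
      rw [Category.id_comp]
      exact chartEquiv_C j c
    let g := H11Proj.ProjSpace.dehom m k j G.1
    let b := (KaehlerDifferential.mvPolynomialBasis k σ).reindex (finSuccAboveEquiv j).symm
    have hb : ∀ i, b i = KaehlerDifferential.D k _ (X ((finSuccAboveEquiv j) i)) := fun i => by
      simp [b, Module.Basis.reindex_apply, KaehlerDifferential.mvPolynomialBasis_apply]
      rfl
    have hu : Ideal.span ({g} ∪ Set.range fun i =>
        b.repr (KaehlerDifferential.D k (MvPolynomial σ k) g) i) = ⊤ := by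
      by_contra hne
      obtain ⟨p, hp⟩ := exists_point (k := k) hne
      let v : Fin (m + 1) → AlgebraicClosure k := fun l => if hl : l = j then 1 else p (X ⟨l, hl⟩)
      have hv : ∀ F, p (H11Proj.ProjSpace.dehom m k j F) = aeval v F := by
        intro F
        induction F using MvPolynomial.induction_on with
        | C c => simpa [H11Proj.ProjSpace.dehom, ← algebraMap_eq] using p.commutes c
        | add p q hp hq => simp [hp, hq]
        | mul_X q i hq =>
          rw [map_mul, map_mul, hq, map_mul, aeval_X]
          congr 1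
          by_cases hi : i = j <;> simp [H11Proj.ProjSpace.dehom, v, hi]
      have h0 : aeval v G.1 = 0 := (hv G.1).symm.trans (hp _ (Ideal.subset_span (Or.inl rfl)))
      have hoff : ∀ l : σ, aeval v (pderiv l.1 G.1) = 0 := fun l => by
        rw [← hv, ← H25Quad.pderiv_dehom]
        have := hp _ (Ideal.subset_span (Or.inr ⟨(finSuccAboveEquiv j).symm l, rfl⟩))
        dsimp only at this
        rw [show b.repr (KaehlerDifferential.D k (MvPolynomial σ k) g) ((finSuccAboveEquiv j).symm l) = pderiv l g by
          simp [b, KaehlerDifferential.mvPolynomialBasis_repr_apply]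
          exact congrArg (fun z => pderiv z g) ((finSuccAboveEquiv j).apply_symm_apply l)] at this
        exact this
      have hjj : aeval v (pderiv j G.1) = 0 := by
        have heul := congrArg (aeval (R := k) v)
          ((G.2 : G.1.IsHomogeneous d).sum_X_mul_pderiv)
        rw [map_sum, map_nsmul, h0, smul_zero, Finset.sum_eq_single j
          (fun l _ hl => by rw [map_mul, hoff ⟨l, hl⟩, mul_zero]) (by simp)] at heul
        simpa [v] using heul
      have := congrFun (h v h0 fun l => by
        by_cases hl : l = j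
        · exact hl ▸ hjj
        · exact hoff ⟨l, hl⟩) j
      simp [v] at this
    have hloc := H25Transversal.locally_standardSmooth b _ hb g hu
    have hP : RingHom.RespectsIso
        (RingHom.Locally (RingHom.IsStandardSmoothOfRelativeDimension.{u, u} (m - 1))) :=
      RingHom.locally_respectsIso RingHom.isStandardSmoothOfRelativeDimension_respectsIso
    have hI' : (secIdeal (𝟙 (CohB1.ProjSpace m k)) {G}).ideal (H25Transversal.chartU m k j) =
        (Ideal.span {g}).map (e : MvPolynomial σ k →+* _) := by
      rw [hcomap, H25Transversal.hypIdeal_ideal_chart, Ideal.map_span, Set.image_singleton,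
        ← H25Transversal.polyToSection_form]
      exact congrArg (fun z => Ideal.span {z}) (he G.1)
    have h3 := hP.1 _ (Ideal.quotientEquiv (Ideal.span {g}) _ e hI') hloc
    convert h3 using 1
    refine RingHom.ext fun c => ?_
    change Ideal.Quotient.mk _ _ = Ideal.quotientEquiv _ _ e hI' (Ideal.Quotient.mk _ (C c))
    rw [Ideal.quotientEquiv_mk]
    exact congrArg _ (hC c)
  have hs := SmoothOfRelativeDimension.smooth (m - 1)
    (secToSpec (𝟙 (CohB1.ProjSpace m k)) ({G} : Set (Form m k d)))
  change Smooth ((secIdeal (𝟙 (CohB1.ProjSpace m k)) {G}).subschemeι ≫ 𝟙 _ ≫ _) at hs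
  rwa [Category.id_comp, hcomap] at hs


/-- The coordinate ring of a chart of a smooth hypersurface is smooth. -/
theorem smooth_chart {d : ℕ} (G : Form m k d)
    (hs : Smooth ((hypIdeal G).subschemeι ≫ CohB1.ProjSpace.toSpec m k)) (j : Fin (m + 1)) :
    Algebra.Smooth k (MvPolynomial {l : Fin (m + 1) // l ≠ j} k ⧸
      Ideal.span {H11Proj.ProjSpace.dehom m k j G.1}) := by
  let U := H25Transversal.chartU m k j
  let I := hypIdeal G
  have key : I.subschemeCover.f U ≫ (I.subschemeι ≫ CohB1.ProjSpace.toSpec m k) = Spec.map (CommRingCat.ofHom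
      ((Ideal.Quotient.mk (I.ideal U)).comp
          ((Scheme.ΓSpecIso (CommRingCat.of k)).inv ≫
            (CohB1.ProjSpace.toSpec m k).appLE ⊤ U.1 (fun _ _ => trivial)).hom)) := by
    have e := IsAffineOpen.SpecMap_appLE_fromSpec (CohB1.ProjSpace.toSpec m k)
      (isAffineOpen_top (Spec (CommRingCat.of k))) U.2 (fun _ _ => trivial)
    rw [IsAffineOpen.fromSpec_top, Scheme.isoSpec_Spec_inv, ← Spec.map_comp] at e
    have h0 := (Scheme.IdealSheafData.subschemeCover_map_subschemeι I U).trans
      (Scheme.IdealSheafData.glueDataObjι_ι I U)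
    refine (Category.assoc _ _ _).symm.trans ?_
    refine (congrArg (· ≫ CohB1.ProjSpace.toSpec m k) h0).trans ?_
    refine (Category.assoc _ _ _).trans ?_
    exact (congrArg (Spec.map _ ≫ ·) e.symm).trans (Spec.map_comp _ _).symm
  haveI : IsOpenImmersion (I.subschemeCover.f U) := I.subschemeCover.map_prop U
  haveI := hs
  have h1 : Smooth (Spec.map (CommRingCat.ofHom
      ((Ideal.Quotient.mk (I.ideal U)).comp
          ((Scheme.ΓSpecIso (CommRingCat.of k)).inv ≫
            (CohB1.ProjSpace.toSpec m k).appLE ⊤ U.1 (fun _ _ => trivial)).hom))) := key ▸ inferInstance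
  have h2 := (HasRingHomProperty.Spec_iff (P := @Smooth)).mp h1
  let e := chartEquiv k m j
  let g := H11Proj.ProjSpace.dehom m k j G.1
  have hI' : I.ideal U = (Ideal.span {g}).map (e : MvPolynomial _ k →+* _) := by
    rw [H25Transversal.hypIdeal_ideal_chart, Ideal.map_span, Set.image_singleton,
      ← H25Transversal.polyToSection_form]
    exact congrArg (fun z => Ideal.span {z}) (chartEquiv_dehom j G.1)
  have h3 := RingHom.Smooth.respectsIso.1 _ (Ideal.quotientEquiv (Ideal.span {g}) _ e hI').symm h2
  rw [← RingHom.smooth_algebraMap]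
  refine Eq.mp (congrArg RingHom.Smooth (RingHom.ext fun c => ?_)) h3
  refine (Ideal.quotientEquiv (Ideal.span {g}) _ e hI').injective ?_
  refine (RingEquiv.apply_symm_apply _ _).trans ?_
  change _ = Ideal.quotientEquiv _ _ e hI' (Ideal.Quotient.mk _ (C c))
  rw [Ideal.quotientEquiv_mk]
  exact congrArg _ (chartEquiv_C j c)

end Groth.Agent.H23Weier
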